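import Groth.Agent.FlatMorDim.LocalDim
import Groth.Agent.DimLib.Algebra

/-!
# Local dimension of the spectrum of an algebra of finite type over a field

`localDim_p Spec A = dim A_p + dim A/p`.
-/

set_option autoImplicit false
set_option backward.isDefEq.respectTransparency.types false
universe u

open CategoryTheory AlgebraicGeometry

namespace Groth.Agent.Unram17Lib

variable (k A : Type u) [Field k] [CommRing A] [Algebra k A] [Algebra.FiniteType k A]

theorem height_map_mk_le (w p : Ideal A) [w.IsPrime] [hp : p.IsPrime] (hw : w ≤ p) :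
    haveI : (p.map (Ideal.Quotient.mk w)).IsPrime :=
      Ideal.map_isPrime_of_surjective Ideal.Quotient.mk_surjective (Ideal.mk_ker.trans_le hw)
    (p.map (Ideal.Quotient.mk w)).height ≤ p.height := by
  haveI h1 : (p.map (Ideal.Quotient.mk w)).IsPrime :=
      Ideal.map_isPrime_of_surjective Ideal.Quotient.mk_surjective (Ideal.mk_ker.trans_le hw)
  let P : PrimeSpectrum (A ⧸ w) := ⟨_, h1⟩
  have hP : (PrimeSpectrum.comap (Ideal.Quotient.mk w) P) = ⟨p, hp⟩ := by
    refine PrimeSpectrum.ext ?_
    show (p.map (Ideal.Quotient.mk w)).comap (Ideal.Quotient.mk w) = p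
    rw [Ideal.comap_map_of_surjective _ Ideal.Quotient.mk_surjective, ← RingHom.ker_eq_comap_bot, Ideal.mk_ker,
      sup_eq_left.2 hw]
  show (P.asIdeal).height ≤ (⟨p, hp⟩ : PrimeSpectrum A).asIdeal.height
  rw [PrimeSpectrum.height_eq_orderHeight, PrimeSpectrum.height_eq_orderHeight, ← hP]
  exact Order.height_le_height_apply_of_strictMono _
    (RingHom.strictMono_comap_of_surjective Ideal.Quotient.mk_surjective) P

include k in
theorem height_map_add_eq (w p : Ideal A) [w.IsPrime] [p.IsPrime] (hw : w ≤ p) :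
    ((p.map (Ideal.Quotient.mk w)).height : WithBot ℕ∞) + ringKrullDim (A ⧸ p) = ringKrullDim (A ⧸ w) := by
  haveI : (p.map (Ideal.Quotient.mk w)).IsPrime :=
    Ideal.map_isPrime_of_surjective Ideal.Quotient.mk_surjective (Ideal.mk_ker.trans_le hw)
  have := DimLib.height_add_ringKrullDim_quotient (k := k) (p.map (Ideal.Quotient.mk w))
  rwa [ringKrullDim_eq_of_ringEquiv (DoubleQuot.quotQuotEquivQuotOfLE hw)] at this

include k in
theorem localDim_spec (p : PrimeSpectrum A) :
    FlatMor.localDim (PrimeSpectrum A) p =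
      ringKrullDim (Localization.AtPrime p.asIdeal) + ringKrullDim (A ⧸ p.asIdeal) := by
  have hft : (algebraMap k A).FiniteType := RingHom.finiteType_algebraMap.2 inferInstance
  haveI : IsNoetherianRing A := Algebra.FiniteType.isNoetherianRing k A
  let π : Spec (CommRingCat.of A) ⟶ Spec (CommRingCat.of k) := Spec.map (CommRingCat.ofHom (algebraMap k A))
  haveI : LocallyOfFiniteType π := (HasRingHomProperty.Spec_iff (P := @LocallyOfFiniteType)).2 hft
  have hpt : ∀ w : PrimeSpectrum A, ringKrullDim (A ⧸ w.asIdeal) = (DimLib.ptDim π w : WithBot ℕ∞) :=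
    fun w => DimLib.ringKrullDim_quotient_eq_ptDim (A := CommRingCat.of A) (algebraMap k A) hft w
  obtain ⟨h, hh⟩ : ∃ h : ℕ, p.asIdeal.height = h :=
    ENat.ne_top_iff_exists.1 (Ideal.height_ne_top (Ideal.IsPrime.ne_top inferInstance)) |>.imp fun _ => Eq.symm
  rw [IsLocalization.AtPrime.ringKrullDim_eq_height p.asIdeal, hh, hpt p]
  have key : ∀ n : ℕ, FlatMor.localDim (PrimeSpectrum A) p ≤ (n : WithBot ℕ∞) ↔ h + DimLib.ptDim π p ≤ n := by
    intro n
    refine (FlatMorDim.localDim_le_iff π p n).trans ⟨fun H => ?_, fun H w hw => ?_⟩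
    · obtain ⟨l, hl, hlen⟩ := p.asIdeal.exists_ltSeries_length_eq_height
      let w : PrimeSpectrum A := l.head
      have hwp : w.asIdeal ≤ p.asIdeal :=
        (show l.head.asIdeal ≤ l.last.asIdeal from l.head_le_last).trans hl.le
      have hle : (h : ℕ∞) ≤ (p.asIdeal.map (Ideal.Quotient.mk w.asIdeal)).height := by
        rw [← hh, ← hlen]
        haveI : (p.asIdeal.map (Ideal.Quotient.mk w.asIdeal)).IsPrime :=
          Ideal.map_isPrime_of_surjective Ideal.Quotient.mk_surjective (Ideal.mk_ker.trans_le hwp)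
        have hi : ∀ i, w.asIdeal ≤ (l i).asIdeal := fun i => l.head_le i
        let m : LTSeries (PrimeSpectrum (A ⧸ w.asIdeal)) := LTSeries.mk l.length
          (fun i => ⟨(l i).asIdeal.map (Ideal.Quotient.mk w.asIdeal),
            Ideal.map_isPrime_of_surjective Ideal.Quotient.mk_surjective (Ideal.mk_ker.trans_le (hi i))⟩)
          (fun a b hab => lt_of_le_of_ne (Ideal.map_mono (l.strictMono hab).le) fun e => (l.strictMono hab).ne (by
            have := congrArg (fun q : PrimeSpectrum _ => q.asIdeal.comap (Ideal.Quotient.mk w.asIdeal)) e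
            simp only [Ideal.comap_map_of_surjective _ Ideal.Quotient.mk_surjective, ← RingHom.ker_eq_comap_bot,
              Ideal.mk_ker, sup_eq_left.2 (hi a), sup_eq_left.2 (hi b)] at this
            exact PrimeSpectrum.ext this))
        show ((m.length : ℕ) : ℕ∞) ≤ (⟨_, this⟩ : PrimeSpectrum (A ⧸ w.asIdeal)).asIdeal.height
        rw [PrimeSpectrum.height_eq_orderHeight]
        refine Order.length_le_height (p := m) ?_
        exact Ideal.map_mono hl.le
      have h2 := H w ((PrimeSpectrum.le_iff_specializes _ _).1 hwp)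
      have h3 := height_map_add_eq k A w.asIdeal p.asIdeal hwp
      rw [hpt, hpt] at h3
      have : ((h : ℕ∞) : WithBot ℕ∞) + (DimLib.ptDim π p : WithBot ℕ∞) ≤ (DimLib.ptDim π w : WithBot ℕ∞) :=
        h3 ▸ add_le_add_left (WithBot.coe_le_coe.2 hle) _
      have : h + DimLib.ptDim π p ≤ DimLib.ptDim π w := by exact_mod_cast this
      omega
    · have hwp : (w : PrimeSpectrum A).asIdeal ≤ p.asIdeal := (PrimeSpectrum.le_iff_specializes _ _).2 hw
      have h3 := height_map_add_eq k A (w : PrimeSpectrum A).asIdeal p.asIdeal hwp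
      rw [hpt, hpt] at h3
      have : (DimLib.ptDim π w : WithBot ℕ∞) ≤ ((h : ℕ∞) : WithBot ℕ∞) + (DimLib.ptDim π p : WithBot ℕ∞) :=
        h3 ▸ add_le_add_left (WithBot.coe_le_coe.2 (hh ▸ height_map_mk_le A _ p.asIdeal hwp)) _
      have : DimLib.ptDim π w ≤ h + DimLib.ptDim π p := by exact_mod_cast this
      omega
  refine le_antisymm ?_ ?_
  · have := (key (h + DimLib.ptDim π p)).2 le_rfl
    exact_mod_cast this
  · obtain ⟨m, hm⟩ : ∃ m : ℕ, m = h + DimLib.ptDim π p := ⟨_, rfl⟩
    rcases eq_or_ne m 0 with h0 | h0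
    · have hge : (0 : WithBot ℕ∞) ≤ FlatMor.localDim (PrimeSpectrum A) p := by
        refine le_iInf fun U => ?_
        haveI : Nonempty (TopologicalSpace.IrreducibleCloseds (U.1 : Set (PrimeSpectrum A))) :=
          ⟨⟨irreducibleComponent (⟨p, U.2⟩ : (U.1 : Set (PrimeSpectrum A))), isIrreducible_irreducibleComponent,
            isClosed_irreducibleComponent⟩⟩
        exact Order.krullDim_nonneg
      have h1 : h = 0 := by omega
      have h2 : DimLib.ptDim π p = 0 := by omega
      simpa [h1, h2] using hge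
    · obtain ⟨m', rfl⟩ := Nat.exists_eq_succ_of_ne_zero h0
      by_contra hcon
      rw [not_le] at hcon
      have hle : FlatMor.localDim (PrimeSpectrum A) p ≤ (m' : WithBot ℕ∞) := by
        have h4 : ((h + DimLib.ptDim π p : ℕ) : WithBot ℕ∞) = ((m'.succ : ℕ) : WithBot ℕ∞) := by rw [hm]
        have h5 : FlatMor.localDim (PrimeSpectrum A) p < ((m'.succ : ℕ) : WithBot ℕ∞) := by
          rw [← h4]; exact_mod_cast hcon
        generalize FlatMor.localDim (PrimeSpectrum A) p = v at h5
        induction v using WithBot.recBotCoe with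
        | bot => exact bot_le
        | coe v =>
          have h6 : v < (m' : ℕ∞) + 1 := by exact_mod_cast h5
          exact WithBot.coe_le_coe.2 (Order.le_of_lt_add_one h6)
      have := (key m').1 hle
      omega

end Groth.Agent.Unram17Lib
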