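import Groth.Agent.Unram17Lib.LocalDim
import Groth.Agent.BertiniLib.RelDim
import Groth.Agent.AlgSpLib.FibreDimChart
import Mathlib.AlgebraicGeometry.Morphisms.Smooth

/-!
# Fibre dimension of a smooth morphism = relative dimension
-/

set_option autoImplicit false
set_option backward.isDefEq.respectTransparency.types false
set_option backward.isDefEq.respectTransparency false
universe u

open CategoryTheory CategoryTheory.Limits AlgebraicGeometry

namespace Groth.Agent.Unram17Lib

theorem localDim_of_isStandardSmooth (k A : Type u) [Field k] [CommRing A] [Algebra k A] (n : ℕ)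
    [Algebra.IsStandardSmoothOfRelativeDimension n k A] (p : PrimeSpectrum A) :
    FlatMor.localDim (PrimeSpectrum A) p = (n : WithBot ℕ∞) := by
  haveI : Algebra.IsStandardSmooth k A :=
    Algebra.IsStandardSmoothOfRelativeDimension.isStandardSmooth n
  refine le_antisymm ?_ ?_
  · refine (iInf_le _ (⟨⊤, Set.mem_univ p⟩ : {U : TopologicalSpace.Opens (PrimeSpectrum A) // p ∈ U})).trans ?_
    refine le_trans ?_ (BertiniLib.ringKrullDim_le_of_isStandardSmooth (k := k) (C := A) n)
    rw [← PrimeSpectrum.topologicalKrullDim_eq_ringKrullDim A]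
    exact topologicalKrullDim_subspace_le _ _
  · obtain ⟨w, hw, hwp⟩ := Ideal.exists_minimalPrimes_le (bot_le : (⊥ : Ideal A) ≤ p.asIdeal)
    haveI := hw.1.1
    rw [localDim_spec k A p, IsLocalization.AtPrime.ringKrullDim_eq_height p.asIdeal,
      ← BertiniLib.ringKrullDim_quotient_minimalPrime (k := k) n w hw,
      ← height_map_add_eq k A w p.asIdeal hwp]
    exact add_le_add (WithBot.coe_le_coe.2 (height_map_mk_le A w p.asIdeal hwp)) le_rfl

variable {X Y : Scheme.{u}}

theorem localDim_of_smoothOfRelativeDimension (k : Type u) [Field k] {Z : Scheme.{u}}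
    (f : Z ⟶ Spec (CommRingCat.of k)) (n : ℕ) [SmoothOfRelativeDimension n f] (z : Z) :
    FlatMor.localDim Z z = (n : WithBot ℕ∞) := by
  obtain ⟨U, hU, V, hV, hzV, e, h⟩ :=
    SmoothOfRelativeDimension.exists_isStandardSmoothOfRelativeDimension (n := n) (f := f) z
  obtain rfl : U = ⊤ := by
    ext y
    simp only [TopologicalSpace.Opens.coe_top, Set.mem_univ, iff_true]
    have : Subsingleton (Spec (CommRingCat.of k)) := inferInstanceAs (Subsingleton (PrimeSpectrum k))
    exact Subsingleton.elim (f z) y ▸ e hzV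
  let φ : k →+* Γ(Z, V) := (f.appLE ⊤ V e).hom.comp (Scheme.ΓSpecIso (CommRingCat.of k)).inv.hom
  have h' : RingHom.IsStandardSmoothOfRelativeDimension n φ :=
    (RingHom.isStandardSmoothOfRelativeDimension_respectsIso (n := n)).2 _
      (Scheme.ΓSpecIso (CommRingCat.of k)).symm.commRingCatIsoToRingEquiv h
  algebraize [φ]
  have hA := localDim_of_isStandardSmooth k Γ(Z, V) n (hV.primeIdealOf ⟨z, hzV⟩)
  have hj : IsOpenImmersion hV.fromSpec := inferInstance
  have := hV.fromSpec.isOpenEmbedding.quasiSober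
  have H := AlgSpLib.localDim_eq_of_map hV.fromSpec.continuous hV.fromSpec.isOpenEmbedding.isOpenMap
    hV.fromSpec.isOpenEmbedding.generalizingMap (fun a a' _ e => hV.fromSpec.isOpenEmbedding.injective e)
    (hV.primeIdealOf ⟨z, hzV⟩)
  rw [hV.fromSpec_primeIdealOf ⟨z, hzV⟩] at H
  rw [← H]
  exact hA

/-- The fibre of a morphism smooth of relative dimension `n` has dimension `n` at each point. -/
theorem fibreDimAt_of_smoothOfRelativeDimension (f : X ⟶ Y) (n : ℕ) [SmoothOfRelativeDimension n f] (x : X) :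
    FlatMor.fibreDimAt f x = (n : WithBot ℕ∞) := by
  haveI := smoothOfRelativeDimension_isStableUnderBaseChange n
  haveI : SmoothOfRelativeDimension n (f.fiberToSpecResidueField (f x)) :=
    MorphismProperty.pullback_snd (P := @SmoothOfRelativeDimension n) _ _ ‹_›
  exact localDim_of_smoothOfRelativeDimension (Y.residueField (f x)) (f.fiberToSpecResidueField (f x)) n
    (f.asFiber x)

theorem fibreDimAt_eq_of_openImmersion {U V U' V' : Scheme.{u}} {h : U ⟶ V} {h' : U' ⟶ V'} (e₁ : U' ⟶ U)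
    (e₂ : V' ⟶ V) [IsOpenImmersion e₁] [IsOpenImmersion e₂] (w : e₁ ≫ h = h' ≫ e₂) (u' : U') :
    FlatMor.fibreDimAt h (e₁ u') = FlatMor.fibreDimAt h' u' :=
  AlgSpLib.fibreDimAt_eq_of_square e₁ e₂ w e₁.isOpenEmbedding.isOpenMap e₁.isOpenEmbedding.generalizingMap
    (fun _ _ _ e => e₁.isOpenEmbedding.injective e)
    (fun v' => ⟨Set.univ, isOpen_univ, trivial, fun _ _ e => e₂.isOpenEmbedding.injective e⟩) u'

/-- A smooth morphism has a relative dimension near every point. -/
theorem exists_smoothOfRelativeDimension (f : X ⟶ Y) [Smooth f] (x : X) :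
    ∃ (V : X.Opens) (n : ℕ), x ∈ V ∧ SmoothOfRelativeDimension n (V.ι ≫ f) := by
  obtain ⟨U, hU, V, hV, hxV, e, h⟩ := Smooth.exists_isStandardSmooth f x
  obtain ⟨n, hn⟩ : ∃ n, RingHom.IsStandardSmoothOfRelativeDimension n (f.appLE U V e).hom := by
    letI := (f.appLE U V e).hom.toAlgebra
    obtain ⟨ι, σ, _, _, ⟨P⟩⟩ := (h : Algebra.IsStandardSmooth Γ(Y, U) Γ(X, V)).out
    exact ⟨P.dimension, ⟨ι, σ, inferInstance, inferInstance, P, rfl⟩⟩
  refine ⟨V, n, hxV, ?_⟩
  haveI : IsAffine U.toScheme := hU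
  haveI : IsAffine V.toScheme := hV
  haveI : SmoothOfRelativeDimension n (f.resLE U V e) := by
    rw [HasRingHomProperty.iff_of_isAffine (P := @SmoothOfRelativeDimension n),
      (RingHom.locally_respectsIso RingHom.isStandardSmoothOfRelativeDimension_respectsIso).arrow_mk_iso_iff
        (arrowResLEAppIso f U V e)]
    exact RingHom.locally_of RingHom.isStandardSmoothOfRelativeDimension_respectsIso _ hn
  rw [← f.resLE_comp_ι e]
  simpa using (inferInstance : SmoothOfRelativeDimension (n + 0) (f.resLE U V e ≫ U.ι))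

theorem fibreDimAt_comp {Z : Scheme.{u}} (f : X ⟶ Y) (g : Y ⟶ Z) [Smooth f] [Smooth g] (x : X) :
    FlatMor.fibreDimAt (f ≫ g) x = FlatMor.fibreDimAt f x + FlatMor.fibreDimAt g (f x) := by
  obtain ⟨W, m, hyW, hm⟩ := exists_smoothOfRelativeDimension g (f x)
  let V₀ := f ⁻¹ᵁ W
  let f' : V₀.toScheme ⟶ W.toScheme := f ∣_ W
  haveI : Smooth f' := IsZariskiLocalAtTarget.restrict ‹_› W
  obtain ⟨V, n, hxV, hn⟩ := exists_smoothOfRelativeDimension f' ⟨x, hyW⟩
  let v : V.toScheme := ⟨⟨x, hyW⟩, hxV⟩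
  let e₁ : V.toScheme ⟶ X := V.ι ≫ V₀.ι
  have w₁ : e₁ ≫ f = (V.ι ≫ f') ≫ W.ι := by
    simp only [e₁, f', Category.assoc, morphismRestrict_ι]; rfl
  have w₂ : e₁ ≫ f ≫ g = ((V.ι ≫ f') ≫ W.ι ≫ g) ≫ 𝟙 Z := by
    rw [Category.comp_id, ← Category.assoc, w₁, Category.assoc]
  have h1 := fibreDimAt_eq_of_openImmersion e₁ W.ι w₁ v
  have h2 := fibreDimAt_eq_of_openImmersion e₁ (𝟙 Z) w₂ v
  have h3 := fibreDimAt_eq_of_openImmersion W.ι (𝟙 Z) (Category.comp_id (W.ι ≫ g)).symm (⟨f x, hyW⟩ : W.toScheme)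
  haveI : SmoothOfRelativeDimension (n + m) ((V.ι ≫ f') ≫ W.ι ≫ g) := inferInstance
  have hv : e₁ v = x := rfl
  rw [fibreDimAt_of_smoothOfRelativeDimension (V.ι ≫ f') n v, hv] at h1
  rw [fibreDimAt_of_smoothOfRelativeDimension ((V.ι ≫ f') ≫ W.ι ≫ g) (n + m) v, hv] at h2
  rw [fibreDimAt_of_smoothOfRelativeDimension (W.ι ≫ g) m _] at h3
  rw [h2, h1, show FlatMor.fibreDimAt g (f x) = _ from h3, Nat.cast_add]

end Groth.Agent.Unram17Lib
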