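import Groth.Agent.CommAlg6.FieldExtSerre
import Groth.Agent.CAlgH.RegularDescent
import Groth.Agent.CAlgH.RegularSmooth
import Groth.Agent.Desc19b.NormalSmooth
import Groth.Agent.VarietyLib.SmoothStalk
import Groth.Agent.SmoothLib.StalkCrit

/-!
# Local rings along smooth morphisms

At a smooth point `x` over `y`: dimension, depth, regularity, `(R_k)`, `(S_k)`, reducedness and
normality of the local ring at `x` in terms of the local ring at `y`.
-/

set_option autoImplicit false
set_option linter.style.haveILetI false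
set_option backward.isDefEq.respectTransparency.types false
set_option backward.isDefEq.respectTransparency false

universe u

open CategoryTheory AlgebraicGeometry IsLocalRing TensorProduct

namespace Groth.Agent.Unram17Lib

variable {X Y : Scheme.{u}} (f : X ⟶ Y)

/-- The local ring at a smooth point is a localization of a smooth algebra over the local ring of
the base, at a prime over the closed point. -/
theorem exists_smooth_localization [LocallyOfFinitePresentation f] (x : X)
    (hx : (f.stalkMap x).hom.FormallySmooth) :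
    ∃ (B : Type u) (_ : CommRing B) (_ : Algebra (Y.presheaf.stalk (f x)) B)
      (_ : Algebra.Smooth (Y.presheaf.stalk (f x)) B) (q : Ideal B) (_ : q.IsPrime),
      q.comap (algebraMap (Y.presheaf.stalk (f x)) B) = maximalIdeal (Y.presheaf.stalk (f x)) ∧
      Nonempty (Localization.AtPrime q ≃+* X.presheaf.stalk x) := by
  obtain ⟨U, hU, V, hV, hle, hxV, hV'⟩ := exists_smooth_of_formallySmooth_stalk f x hx
  have hxU : f x ∈ U := hle hxV
  algebraize [(f.appLE U V hle).hom]
  have : Algebra.Smooth Γ(Y, U) Γ(X, V) := hV'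
  letI : Algebra Γ(Y, U) (Y.presheaf.stalk (f x)) := (Y.presheaf.germ U (f x) hxU).hom.toAlgebra
  letI : Algebra Γ(X, V) (X.presheaf.stalk x) := (X.presheaf.germ V x hxV).hom.toAlgebra
  have : IsLocalization.AtPrime (X.presheaf.stalk x) (hV.primeIdealOf ⟨x, hxV⟩).asIdeal :=
    hV.isLocalization_stalk ⟨x, hxV⟩
  let A := Y.presheaf.stalk (f x)
  let B := A ⊗[Γ(Y, U)] Γ(X, V)
  letI : Algebra A (X.presheaf.stalk x) := (f.stalkMap x).hom.toAlgebra
  letI : Algebra Γ(Y, U) (X.presheaf.stalk x) :=
    ((X.presheaf.germ V x hxV).hom.comp (f.appLE U V hle).hom).toAlgebra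
  have : IsScalarTower Γ(Y, U) Γ(X, V) (X.presheaf.stalk x) := IsScalarTower.of_algebraMap_eq fun _ => rfl
  have : IsScalarTower Γ(Y, U) A (X.presheaf.stalk x) := IsScalarTower.of_algebraMap_eq fun r => by
    change X.presheaf.germ V x hxV (f.appLE U V hle r) = (Y.presheaf.germ U (f x) hxU ≫ f.stalkMap x) r
    rw [Scheme.Hom.germ_stalkMap, Scheme.Hom.appLE, CommRingCat.comp_apply, TopCat.Presheaf.germ_res_apply]
    rfl
  let μ : B →ₐ[A] X.presheaf.stalk x :=
    Algebra.TensorProduct.lift (Algebra.ofId A _) (IsScalarTower.toAlgHom Γ(Y, U) Γ(X, V) _)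
      fun a b => Commute.all _ _
  let i : Γ(X, V) →+* B := Algebra.TensorProduct.includeRight.toRingHom
  have hi : ∀ b, μ (i b) = algebraMap Γ(X, V) (X.presheaf.stalk x) b := fun b => by
    change μ (1 ⊗ₜ[Γ(Y, U)] b) = _
    exact (Algebra.TensorProduct.lift_tmul _ _ _ (1 : A) b).trans (by rw [map_one, one_mul]; rfl)
  let q : Ideal B := (maximalIdeal (X.presheaf.stalk x)).comap μ.toRingHom
  let lu : Localization.AtPrime q →+* X.presheaf.stalk x :=
    IsLocalization.lift (M := q.primeCompl) (S := Localization.AtPrime q) (g := μ.toRingHom) fun b => by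
      by_contra hb
      exact b.2 ((mem_maximalIdeal _).mpr hb)
  let inv : X.presheaf.stalk x →+* Localization.AtPrime q :=
    IsLocalization.lift (M := (hV.primeIdealOf ⟨x, hxV⟩).asIdeal.primeCompl)
      (g := (algebraMap B (Localization.AtPrime q)).comp i) fun b => by
        refine IsLocalization.map_units (Localization.AtPrime q) (⟨i b.1, ?_⟩ : q.primeCompl)
        intro hb
        refine b.2 ((IsLocalization.AtPrime.comap_maximalIdeal (X.presheaf.stalk x)
          (hV.primeIdealOf ⟨x, hxV⟩).asIdeal).le ?_)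
        change algebraMap Γ(X, V) (X.presheaf.stalk x) b.1 ∈ maximalIdeal (X.presheaf.stalk x)
        rw [← hi]
        exact hb
  have h1 : lu.comp inv = RingHom.id _ := by
    refine IsLocalization.ringHom_ext (hV.primeIdealOf ⟨x, hxV⟩).asIdeal.primeCompl (RingHom.ext fun b => ?_)
    change lu (inv (algebraMap Γ(X, V) (X.presheaf.stalk x) b)) = _
    rw [IsLocalization.lift_eq, RingHom.comp_apply, IsLocalization.lift_eq]
    exact hi b
  have h2 : inv.comp lu = RingHom.id _ := by
    refine IsLocalization.ringHom_ext q.primeCompl ?_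
    let e₁ := (inv.comp lu).comp (algebraMap B (Localization.AtPrime q))
    let e₂ := algebraMap B (Localization.AtPrime q)
    have hB : ∀ b, e₁ (i b) = e₂ (i b) := fun b => by
      change inv (lu (algebraMap B _ (i b))) = algebraMap B _ (i b)
      rw [IsLocalization.lift_eq]
      change inv (μ (i b)) = _
      rw [hi, IsLocalization.lift_eq]
      rfl
    have hA : e₁.comp (algebraMap A B) = e₂.comp (algebraMap A B) := by
      have : IsLocalization.AtPrime A (hU.primeIdealOf ⟨f x, hxU⟩).asIdeal :=
        hU.isLocalization_stalk ⟨f x, hxU⟩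
      refine IsLocalization.ringHom_ext (hU.primeIdealOf ⟨f x, hxU⟩).asIdeal.primeCompl (RingHom.ext fun r => ?_)
      have h3 : algebraMap A B (algebraMap Γ(Y, U) A r) = i (algebraMap Γ(Y, U) Γ(X, V) r) := by
        rw [← IsScalarTower.algebraMap_apply]
        exact ((Algebra.TensorProduct.includeRight : Γ(X, V) →ₐ[Γ(Y, U)] B).commutes r).symm
      change e₁ (algebraMap A B (algebraMap Γ(Y, U) A r)) = e₂ (algebraMap A B (algebraMap Γ(Y, U) A r))
      rw [h3, hB]
    refine RingHom.ext fun z => ?_
    change e₁ z = e₂ z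
    induction z using TensorProduct.induction_on with
    | zero => simp
    | tmul a b =>
        have : a ⊗ₜ[Γ(Y, U)] b = algebraMap A B a * i b := by
          change _ = (a ⊗ₜ[Γ(Y, U)] (1 : Γ(X, V))) * (1 ⊗ₜ[Γ(Y, U)] b)
          rw [Algebra.TensorProduct.tmul_mul_tmul, mul_one, one_mul]
        rw [this, map_mul, map_mul, hB]
        exact congrArg (· * e₂ (i b)) (RingHom.congr_fun hA a)
    | add y z hy hz => rw [map_add, map_add, hy, hz]
  refine ⟨B, inferInstance, inferInstance, inferInstance, q, inferInstance, ?_,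
    ⟨RingEquiv.ofRingHom lu inv h1 h2⟩⟩
  have : IsLocalHom (algebraMap A (X.presheaf.stalk x)) := inferInstanceAs <| IsLocalHom (f.stalkMap x).hom
  show ((maximalIdeal (X.presheaf.stalk x)).comap μ.toRingHom).comap (algebraMap A B) = _
  rw [Ideal.comap_comap]
  refine Eq.trans (congrArg (fun g => (maximalIdeal (X.presheaf.stalk x)).comap g) (μ.comp_algebraMap)) ?_
  exact maximalIdeal_comap _

theorem faithfullyFlat_stalk [LocallyOfFinitePresentation f] (x : X)
    (hx : (f.stalkMap x).hom.FormallySmooth) :
    letI := (f.stalkMap x).hom.toAlgebra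
    Module.FaithfullyFlat (Y.presheaf.stalk (f x)) (X.presheaf.stalk x) := by
  algebraize [(f.stalkMap x).hom]
  exact @Module.FaithfullyFlat.of_flat_of_isLocalHom _ _ _ _ _ _ _
    (SmoothLib.flat_of_formallySmooth_stalkMap f hx) (f.toLRSHom.prop x)

section algebra

variable {A B : Type u} [CommRing A] [IsLocalRing A] [IsNoetherianRing A] [CommRing B] [Algebra A B]
  [Algebra.Smooth A B] (q : Ideal B) [q.IsPrime]

attribute [local instance] CommAlg6.isLocalRing_fibLocRing

theorem isRegularRing_fiber' (p : Ideal A) [p.IsPrime] : IsRegularRing (p.Fiber B) :=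
  CAlgH.isRegularRing_of_smooth p.ResidueField (p.Fiber B)

theorem isRegularLocalRing_fibLocRing : IsRegularLocalRing (EGA4.FibLocRing A B q) := by
  obtain ⟨Q, hQ, ⟨e⟩⟩ := CommAlg6.exists_fiber_prime (A := A) q
  haveI : IsRegularLocalRing (Localization.AtPrime Q) := VarietyLib.isRegularLocalRing_of_smooth (q.comap (algebraMap A B)).ResidueField
    ((q.comap (algebraMap A B)).Fiber B) Q
  exact IsRegularLocalRing.of_ringEquiv (R := Localization.AtPrime Q) e

variable {q}

theorem nonempty_equiv_base (hq : q.comap (algebraMap A B) = maximalIdeal A) :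
    Nonempty (Localization.AtPrime (q.comap (algebraMap A B)) ≃+* A) :=
  ⟨(IsLocalization.atUnits A (q.comap (algebraMap A B)).primeCompl (fun a ha => by
      by_contra h
      exact ha (hq.ge ((mem_maximalIdeal a).mpr h)))).toRingEquiv.symm⟩

/-- Dimension, depth and regularity at a prime over the closed point of the base. -/
theorem local_smooth (hq : q.comap (algebraMap A B) = maximalIdeal A) :
    ringKrullDim (Localization.AtPrime q) = ringKrullDim A + ringKrullDim (EGA4.FibLocRing A B q) ∧
    _root_.LocCoh.depth (Localization.AtPrime q) (Localization.AtPrime q) =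
      _root_.LocCoh.depth A A + _root_.LocCoh.depth (EGA4.FibLocRing A B q) (EGA4.FibLocRing A B q) ∧
    (IsRegularLocalRing A → IsRegularLocalRing (Localization.AtPrime q)) := by
  have : IsNoetherianRing B := Algebra.FiniteType.isNoetherianRing A B
  obtain ⟨h1, h2, -, h4⟩ := CommAlg6.local_fibre (A := A) q
  obtain ⟨e⟩ := nonempty_equiv_base hq
  rw [ringKrullDim_eq_of_ringEquiv e] at h1
  rw [CAlgH3.depth_ringEquiv e] at h2
  exact ⟨h1, h2, fun _ => h4 (IsRegularLocalRing.of_ringEquiv e.symm) (isRegularLocalRing_fibLocRing q)⟩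

end algebra

variable [LocallyOfFinitePresentation f] (x : X) (hx : (f.stalkMap x).hom.FormallySmooth)

include hx

theorem isReduced_stalk_iff :
    _root_.IsReduced (X.presheaf.stalk x) ↔ _root_.IsReduced (Y.presheaf.stalk (f x)) := by
  constructor
  · intro
    algebraize [(f.stalkMap x).hom]
    have := faithfullyFlat_stalk f x hx
    exact isReduced_of_injective (algebraMap (Y.presheaf.stalk (f x)) (X.presheaf.stalk x))
      (FaithfulSMul.algebraMap_injective _ _)
  · intro
    obtain ⟨B, _, _, _, q, _, -, ⟨e⟩⟩ := exists_smooth_localization f x hx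
    have : _root_.IsReduced B := CAlgH.isReduced_of_smooth (Y.presheaf.stalk (f x)) B
    have : _root_.IsReduced (Localization.AtPrime q) := isReduced_localizationPreserves q.primeCompl _ inferInstance
    exact isReduced_of_injective e.symm e.symm.injective

theorem normal_stalk_iff :
    (IsDomain (X.presheaf.stalk x) ∧ IsIntegrallyClosed (X.presheaf.stalk x)) ↔
      (IsDomain (Y.presheaf.stalk (f x)) ∧ IsIntegrallyClosed (Y.presheaf.stalk (f x))) := by
  constructor
  · rintro ⟨_, _⟩
    algebraize [(f.stalkMap x).hom]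
    have := faithfullyFlat_stalk f x hx
    exact Et18.normal_of_faithfullyFlat (Y.presheaf.stalk (f x)) (X.presheaf.stalk x)
  · rintro ⟨_, _⟩
    obtain ⟨B, _, _, _, q, _, -, ⟨e⟩⟩ := exists_smooth_localization f x hx
    obtain ⟨_, _⟩ := Desc19b.normal_localization_of_smooth (Y.presheaf.stalk (f x)) B q
    exact ⟨e.symm.injective.isDomain, IsIntegrallyClosed.of_equiv e⟩

variable [IsLocallyNoetherian Y]

theorem isRegularLocalRing_stalk_iff :
    IsRegularLocalRing (X.presheaf.stalk x) ↔ IsRegularLocalRing (Y.presheaf.stalk (f x)) := by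
  constructor
  · intro
    algebraize [(f.stalkMap x).hom]
    have := faithfullyFlat_stalk f x hx
    have : IsLocalHom (algebraMap (Y.presheaf.stalk (f x)) (X.presheaf.stalk x)) :=
      inferInstanceAs <| IsLocalHom (f.stalkMap x).hom
    exact CAlgH3.isRegularLocalRing_of_flat (X.presheaf.stalk x)
  · intro h
    obtain ⟨B, _, _, _, q, _, hq, ⟨e⟩⟩ := exists_smooth_localization f x hx
    have := (local_smooth hq).2.2 h
    exact IsRegularLocalRing.of_ringEquiv e

theorem isNoetherianRing_stalk : IsNoetherianRing (X.presheaf.stalk x) :=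
  have := LocallyOfFiniteType.isLocallyNoetherian f
  inferInstance

theorem hasRk_stalk_iff (n : ℕ) :
    LocCoh.HasRk n (X.presheaf.stalk x) ↔ LocCoh.HasRk n (Y.presheaf.stalk (f x)) := by
  constructor
  · intro h
    algebraize [(f.stalkMap x).hom]
    have := faithfullyFlat_stalk f x hx
    have := isNoetherianRing_stalk f x hx
    exact (CAlgH.hasRk_of_faithfullyFlat n (Y.presheaf.stalk (f x)) (X.presheaf.stalk x) h).2
  · intro h
    obtain ⟨B, _, _, _, q, _, -, ⟨e⟩⟩ := exists_smooth_localization f x hx
    have : IsNoetherianRing B := Algebra.FiniteType.isNoetherianRing (Y.presheaf.stalk (f x)) B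
    have hB := CommAlg6.hasRk_of_regular_fibres (G := Y.presheaf.stalk (f x)) (G' := B)
      (fun p _ => isRegularRing_fiber' p) n h
    letI := (e.toRingHom.comp (algebraMap B (Localization.AtPrime q))).toAlgebra
    let e' : Localization.AtPrime q ≃ₐ[B] X.presheaf.stalk x := AlgEquiv.ofRingEquiv (f := e) fun _ => rfl
    have := IsLocalization.isLocalization_of_algEquiv q.primeCompl e'
    exact CAlgH3.hasRk_localization q.primeCompl hB

theorem hasSk_stalk_iff (n : ℕ) :
    LocCoh.HasSk n (X.presheaf.stalk x) (X.presheaf.stalk x) ↔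
      LocCoh.HasSk n (Y.presheaf.stalk (f x)) (Y.presheaf.stalk (f x)) := by
  constructor
  · intro h
    algebraize [(f.stalkMap x).hom]
    have := faithfullyFlat_stalk f x hx
    have := isNoetherianRing_stalk f x hx
    exact (CAlgH.hasSk_of_faithfullyFlat n (Y.presheaf.stalk (f x)) (X.presheaf.stalk x) h).2
  · intro h
    obtain ⟨B, _, _, _, q, _, -, ⟨e⟩⟩ := exists_smooth_localization f x hx
    have : IsNoetherianRing B := Algebra.FiniteType.isNoetherianRing (Y.presheaf.stalk (f x)) B
    have hB := CommAlg6.hasSk_of_regular_fibres (G := Y.presheaf.stalk (f x)) (G' := B)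
      (fun p _ => isRegularRing_fiber' p) n h
    letI := (e.toRingHom.comp (algebraMap B (Localization.AtPrime q))).toAlgebra
    let e' : Localization.AtPrime q ≃ₐ[B] X.presheaf.stalk x := AlgEquiv.ofRingEquiv (f := e) fun _ => rfl
    have := IsLocalization.isLocalization_of_algEquiv q.primeCompl e'
    exact CAlgH3.hasSk_localization q.primeCompl hB

theorem ringKrullDim_add_depth_stalk :
    ringKrullDim (X.presheaf.stalk x) +
        ((LocCoh.depth (Y.presheaf.stalk (f x)) (Y.presheaf.stalk (f x)) : ℕ∞) : WithBot ℕ∞) =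
      ringKrullDim (Y.presheaf.stalk (f x)) +
        ((LocCoh.depth (X.presheaf.stalk x) (X.presheaf.stalk x) : ℕ∞) : WithBot ℕ∞) := by
  obtain ⟨B, _, _, _, q, _, hq, ⟨e⟩⟩ := exists_smooth_localization f x hx
  obtain ⟨h1, h2, -⟩ := local_smooth hq
  have := isRegularLocalRing_fibLocRing (A := Y.presheaf.stalk (f x)) q
  rw [← ringKrullDim_eq_of_ringEquiv e, ← CAlgH3.depth_ringEquiv e, h1, h2, WithBot.coe_add,
    ← CAlgH3.depth_eq_ringKrullDim (R := EGA4.FibLocRing (Y.presheaf.stalk (f x)) B q)]
  abel

theorem ringKrullDim_stalk_eq_add :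
    ringKrullDim (X.presheaf.stalk x) = ringKrullDim (Y.presheaf.stalk (f x)) +
      ringKrullDim (X.presheaf.stalk x ⧸
        (maximalIdeal (Y.presheaf.stalk (f x))).map (f.stalkMap x).hom) := by
  algebraize [(f.stalkMap x).hom]
  have := faithfullyFlat_stalk f x hx
  have := isNoetherianRing_stalk f x hx
  have : IsLocalHom (algebraMap (Y.presheaf.stalk (f x)) (X.presheaf.stalk x)) :=
    inferInstanceAs <| IsLocalHom (f.stalkMap x).hom
  exact CommAlg6.ringKrullDim_eq_add_fibre

end Groth.Agent.Unram17Lib
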