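import Groth.Agent.Unram17Lib.RelDim
import Groth.Agent.VarietyLib.SmoothStalk
import Groth.Agent.SmoothLib.Quotient
import Groth.Agent.DimLib.Points
import Groth.Agent.CAlgH3.RegularLocal
import Mathlib.RingTheory.Etale.Kaehler
import Mathlib.RingTheory.Smooth.StandardSmoothOfFree
import Mathlib.RingTheory.KrullDimension.NonZeroDivisors
import Mathlib.RingTheory.SurjectiveOnStalks

/-!
# Smoothness over a field and the rank of differentials

For `A` of finite type over a field `k` and a prime `q`:
`A` is smooth at `q` iff `dim κ(q) ⊗ Ω[A⁄k]` is at most the local dimension of `Spec A` at `q`,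
in which case they are equal.
-/

set_option autoImplicit false
set_option backward.isDefEq.respectTransparency.types false
universe u

open TensorProduct KaehlerDifferential IsLocalRing

namespace Groth.Agent.Unram17Lib

variable (k : Type u) [Field k]

/-- At a smooth point: regular, and the fibre of the differentials has the local dimension. -/
theorem regular_and_localDim_eq_finrank {A : Type u} [CommRing A] [Algebra k A]
    [Algebra.FiniteType k A] (q : Ideal A) [q.IsPrime] [Algebra.IsSmoothAt k q] :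
    IsRegularLocalRing (Localization.AtPrime q) ∧
      FlatMor.localDim (PrimeSpectrum A) ⟨q, inferInstance⟩ =
        ((Module.finrank q.ResidueField (q.ResidueField ⊗[A] Ω[A⁄k]) : ℕ) : WithBot ℕ∞) := by
  haveI : Algebra.FinitePresentation k A := Algebra.FinitePresentation.of_finiteType.1 inferInstance
  obtain ⟨g, hg, hT⟩ := Algebra.IsSmoothAt.exists_notMem_isStandardSmooth k q
  let T := Localization.Away g
  obtain ⟨ι, σ, _, _, ⟨P⟩⟩ := (hT : Algebra.IsStandardSmooth k T).out
  haveI : Algebra.IsStandardSmoothOfRelativeDimension P.dimension k T :=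
    ⟨ι, σ, inferInstance, inferInstance, P, rfl⟩
  haveI : Algebra.Smooth k T := inferInstance
  haveI : Algebra.FiniteType k T := inferInstance
  have hdisj : Disjoint (Submonoid.powers g : Set A) q := by
    rw [Set.disjoint_left]
    rintro x ⟨n, rfl⟩ hx
    exact hg (Ideal.IsPrime.mem_of_pow_mem ‹_› n hx)
  let t := q.map (algebraMap A T)
  haveI ht : t.IsPrime := IsLocalization.isPrime_of_isPrime_disjoint (Submonoid.powers g) T q ‹_› hdisj
  have htq : t.comap (algebraMap A T) = q :=
    IsLocalization.comap_map_of_isPrime_disjoint (Submonoid.powers g) T ‹_› hdisj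
  refine ⟨?_, ?_⟩
  · haveI := VarietyLib.isRegularLocalRing_of_smooth k T t
    haveI h := IsLocalization.isLocalization_isLocalization_atPrime_isLocalization
      (Submonoid.powers g) (Localization.AtPrime t) t
    have e : Localization.AtPrime (t.comap (algebraMap A T)) ≃ₐ[A] Localization.AtPrime t :=
      IsLocalization.algEquiv (t.comap (algebraMap A T)).primeCompl _ _
    have h2 : IsRegularLocalRing (Localization.AtPrime (t.comap (algebraMap A T))) :=
      IsRegularLocalRing.of_ringEquiv e.symm.toRingEquiv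
    have : ∀ (p : Ideal A) [p.IsPrime], p = q → IsRegularLocalRing (Localization.AtPrime p) →
        IsRegularLocalRing (Localization.AtPrime q) := by rintro p _ rfl h; exact h
    exact this _ htq h2
  · have hemb := PrimeSpectrum.localization_away_isOpenEmbedding T g
    have hloc : FlatMor.localDim (PrimeSpectrum T) ⟨t, ht⟩ =
        FlatMor.localDim (PrimeSpectrum A) ⟨q, inferInstance⟩ := by
      have h := AlgSpLib.localDim_eq_of_map hemb.continuous hemb.isOpenMap hemb.generalizingMap
        (fun a a' _ e => hemb.injective e) ⟨t, ht⟩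
      rw [h]
      exact congrArg _ (PrimeSpectrum.ext htq)
    rw [← hloc, localDim_of_isStandardSmooth k T P.dimension ⟨t, ht⟩]
    have hunit : IsUnit (algebraMap A q.ResidueField g) := by
      rw [isUnit_iff_ne_zero, ne_eq, Ideal.algebraMap_residueField_eq_zero]
      exact hg
    letI : Algebra T q.ResidueField := (IsLocalization.Away.lift g hunit).toAlgebra
    haveI : IsScalarTower A T q.ResidueField := IsScalarTower.of_algebraMap_eq fun a =>
      (IsLocalization.Away.lift_eq g hunit a).symm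
    haveI : Algebra.FormallyEtale A T := .of_isLocalization (Submonoid.powers g)
    obtain ⟨b⟩ : Nonempty (Module.Basis (Fin P.dimension) T Ω[T⁄k]) := by
      haveI : Nontrivial T := ⟨⟨0, 1, fun h => ht.ne_top (t.eq_top_of_isUnit_mem t.zero_mem (h ▸ isUnit_one))⟩⟩
      exact ⟨(Module.Free.chooseBasis T Ω[T⁄k]).reindex
        ((Fintype.equivFinOfCardEq (Module.finrank_eq_card_chooseBasisIndex T Ω[T⁄k]).symm).trans
          (finCongr (Module.finrank_eq_of_rank_eq
            (Algebra.IsStandardSmoothOfRelativeDimension.rank_kaehlerDifferential (R := k) (S := T)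
              P.dimension))))⟩
    let eΩ := tensorKaehlerEquivOfFormallyEtale k A T
    let bκ : Module.Basis (Fin P.dimension) q.ResidueField (q.ResidueField ⊗[A] Ω[A⁄k]) :=
      ((b.map eΩ.symm).baseChange q.ResidueField).map
        (AlgebraTensorModule.cancelBaseChange A T q.ResidueField q.ResidueField Ω[A⁄k])
    rw [Module.finrank_eq_card_basis bκ, Fintype.card_fin]

/-- A quotient of a smooth algebra of the same local dimension is smooth. -/
theorem isSmoothAt_of_surjective {B S : Type u} [CommRing B] [CommRing S] [Algebra k B] [Algebra k S]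
    [Algebra.FiniteType k B] (ρ : B →ₐ[k] S) (hρ : Function.Surjective ρ) (q : Ideal S) [q.IsPrime]
    [Algebra.IsSmoothAt k (q.comap ρ.toRingHom)]
    (h : FlatMor.localDim (PrimeSpectrum B) ⟨q.comap ρ.toRingHom, inferInstance⟩ ≤
      FlatMor.localDim (PrimeSpectrum S) ⟨q, inferInstance⟩) :
    Algebra.IsSmoothAt k q := by
  haveI : Algebra.FiniteType k S := Algebra.FiniteType.of_surjective ρ hρ
  let qB := q.comap ρ.toRingHom
  let L := Localization.AtPrime qB
  let M := Localization.AtPrime q
  haveI : IsRegularLocalRing L := (regular_and_localDim_eq_finrank k qB).1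
  haveI : IsDomain L := CAlgH3.isDomain_of_isRegularLocalRing L
  haveI : IsNoetherianRing B := Algebra.FiniteType.isNoetherianRing k B
  haveI : IsNoetherianRing S := Algebra.FiniteType.isNoetherianRing k S
  have hd : ringKrullDim (B ⧸ qB) = ringKrullDim (S ⧸ q) := by
    refine ringKrullDim_eq_of_ringEquiv ((Ideal.quotEquivOfEq ?_).trans
      (RingHom.quotientKerEquivOfSurjective (f := (Ideal.Quotient.mk q).comp ρ.toRingHom)
        (Ideal.Quotient.mk_surjective.comp hρ)))
    rw [← RingHom.comap_ker, Ideal.mk_ker]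
  have h2 : ringKrullDim L + ringKrullDim (S ⧸ q) ≤ ringKrullDim M + ringKrullDim (S ⧸ q) := by
    rw [localDim_spec k B, localDim_spec k S] at h
    exact hd ▸ h
  obtain ⟨dS, hdS⟩ : ∃ dS : ℕ, ringKrullDim (S ⧸ q) = (dS : WithBot ℕ∞) :=
    ⟨_, DimLib.ringKrullDim_quotient_eq_ptDim (A := CommRingCat.of S) (algebraMap k S)
      (RingHom.finiteType_algebraMap.2 inferInstance) ⟨q, inferInstance⟩⟩
  obtain ⟨a, ha⟩ : ∃ a : ℕ, ringKrullDim L = (a : WithBot ℕ∞) := by
    rw [IsLocalization.AtPrime.ringKrullDim_eq_height qB]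
    obtain ⟨n, hn⟩ := ENat.ne_top_iff_exists.1 (Ideal.height_ne_top (I := qB) (Ideal.IsPrime.ne_top inferInstance))
    exact ⟨n, by rw [← hn]; rfl⟩
  obtain ⟨b, hb⟩ : ∃ b : ℕ, ringKrullDim M = (b : WithBot ℕ∞) := by
    rw [IsLocalization.AtPrime.ringKrullDim_eq_height q]
    obtain ⟨n, hn⟩ := ENat.ne_top_iff_exists.1 (Ideal.height_ne_top (I := q) (Ideal.IsPrime.ne_top inferInstance))
    exact ⟨n, by rw [← hn]; rfl⟩
  rw [ha, hb, hdS] at h2
  have hab : a ≤ b := by
    have : a + dS ≤ b + dS := by exact_mod_cast h2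
    omega
  let f₀ : L →+* M := Localization.localRingHom qB q ρ.toRingHom rfl
  let f : L →ₐ[k] M :=
    { f₀ with
      commutes' := fun r => by
        change f₀ (algebraMap k L r) = _
        rw [IsScalarTower.algebraMap_apply k B L, Localization.localRingHom_to_map,
          IsScalarTower.algebraMap_apply k S M]
        exact congrArg _ (ρ.commutes r) }
  have hsurj : Function.Surjective f :=
    (RingHom.surjectiveOnStalks_of_surjective hρ).localRingHom_surjective qB q rfl
  have hinj : Function.Injective f := by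
    rw [injective_iff_map_eq_zero]
    intro x hx
    by_contra hx0
    have h3 := ringKrullDim_quotient_succ_le_of_nonZeroDivisor (mem_nonZeroDivisors_of_ne_zero hx0)
    have h4 : ringKrullDim M ≤ ringKrullDim (L ⧸ Ideal.span {x}) := by
      refine ringKrullDim_le_of_surjective (Ideal.Quotient.lift (Ideal.span {x}) f₀ ?_) ?_
      · intro z hz
        obtain ⟨c, rfl⟩ := Ideal.mem_span_singleton'.1 hz
        rw [map_mul, show f₀ x = 0 from hx, mul_zero]
      · intro y
        obtain ⟨z, hz⟩ := hsurj y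
        exact ⟨Ideal.Quotient.mk _ z, hz⟩
    have h5 : ((b + 1 : ℕ) : WithBot ℕ∞) ≤ (a : WithBot ℕ∞) := by
      rw [← ha, Nat.cast_add, Nat.cast_one, ← hb]
      exact (add_le_add_left h4 1).trans h3
    have : b + 1 ≤ a := by exact_mod_cast h5
    omega
  haveI : Algebra.FormallySmooth k L := ‹Algebra.IsSmoothAt k qB›
  exact Algebra.FormallySmooth.of_equiv (AlgEquiv.ofBijective f ⟨hinj, hsurj⟩)

section Base

variable (A₀ : Type u) [CommRing A₀]

set_option backward.isDefEq.respectTransparency false in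
/-- A finite type algebra is locally a quotient of a smooth one with the same fibre of differentials. -/
theorem exists_smooth_cover {S : Type u} [CommRing S] [Algebra A₀ S] [Algebra.FiniteType A₀ S]
    (q : Ideal S) [q.IsPrime] :
    ∃ (B : Type u) (_ : CommRing B) (_ : Algebra A₀ B) (_ : Algebra.FiniteType A₀ B) (ρ : B →ₐ[A₀] S),
      Function.Surjective ρ ∧ Algebra.IsSmoothAt A₀ (q.comap ρ.toRingHom) ∧
      ∀ b ∈ RingHom.ker ρ, letI := ρ.toRingHom.toAlgebra
        (1 : q.ResidueField) ⊗ₜ[B] D A₀ B b = 0 := by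
  classical
  obtain ⟨n, π, hπ⟩ := Algebra.FiniteType.iff_quotient_mvPolynomial''.1
    (inferInstance : Algebra.FiniteType A₀ S)
  let P := MvPolynomial (Fin n) A₀
  let Q : Ideal P := q.comap π.toRingHom
  let v : RingHom.ker π → Q.ResidueField ⊗[P] Ω[P⁄A₀] := fun p => 1 ⊗ₜ D A₀ P p.1
  obtain ⟨κ', a, ha, hsp, hli⟩ := exists_linearIndependent' Q.ResidueField v
  haveI : Finite κ' := hli.finite
  letI : Fintype κ' := Fintype.ofFinite κ'
  let s : Finset P := Finset.univ.image fun i => (a i).1
  have hsI : ∀ g ∈ s, g ∈ RingHom.ker π := fun g hg => by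
    obtain ⟨i, -, rfl⟩ := Finset.mem_image.1 hg
    exact (a i).2
  let J : Ideal P := Ideal.span ↑s
  have hJI : J ≤ RingHom.ker π := Ideal.span_le.2 hsI
  let ρ : (P ⧸ J) →ₐ[A₀] S := Ideal.Quotient.liftₐ J π fun x hx => hJI hx
  have hρ : Function.Surjective ρ := fun y => by
    obtain ⟨x, rfl⟩ := hπ y
    exact ⟨Ideal.Quotient.mk J x, rfl⟩
  let qB := q.comap ρ.toRingHom
  have hQ : Q = qB.comap (Ideal.Quotient.mk J) := Ideal.ext fun x => Iff.rfl
  haveI : Algebra.IsSmoothAt A₀ Q := by
    haveI : Algebra.FormallyEtale P (Localization.AtPrime Q) := .of_isLocalization Q.primeCompl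
    exact Algebra.FormallySmooth.comp A₀ P (Localization.AtPrime Q)
  refine ⟨P ⧸ J, inferInstance, inferInstance, inferInstance, ρ, hρ, ?_, ?_⟩
  · refine (SmoothLib.isSmoothAt_quotient_iff J ⟨s, rfl⟩ qB Q hQ).2
      ⟨s, Ideal.subset_span, Ideal.map_span _ _, ?_⟩
    have hmem : ∀ g : ↥s, ∃ i, (a i).1 = g.1 := fun g => by
      obtain ⟨i, -, hi⟩ := Finset.mem_image.1 g.2
      exact ⟨i, hi⟩
    choose idx hidx using hmem
    have : (fun g : ↥s => (1 : Q.ResidueField) ⊗ₜ[P] D A₀ P (g : P)) = (v ∘ a) ∘ idx :=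
      funext fun g => by show _ = 1 ⊗ₜ D A₀ P (a (idx g)).1; rw [hidx]
    rw [this]
    exact hli.comp _ fun g g' e => Subtype.ext (by rw [← hidx g, ← hidx g', e])
  · intro b hb
    let := ρ.toRingHom.toAlgebra
    let κ := q.ResidueField
    letI : Algebra P κ := ((algebraMap (P ⧸ J) κ).comp (Ideal.Quotient.mk J)).toAlgebra
    haveI : IsScalarTower P (P ⧸ J) κ := ⟨fun x y z => by
      obtain ⟨y, rfl⟩ := Ideal.Quotient.mk_surjective y
      rw [Algebra.smul_def x (Ideal.Quotient.mk J y)]
      erw [Algebra.smul_def, Algebra.smul_def, Algebra.smul_def, map_mul, mul_assoc]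
      rfl⟩
    letI : Algebra Q.ResidueField κ := (Ideal.ResidueField.map Q q π.toRingHom rfl).toAlgebra
    haveI : IsScalarTower P Q.ResidueField κ := IsScalarTower.of_algebraMap_eq fun p =>
      (Ideal.ResidueField.map_algebraMap Q q π.toRingHom rfl p).symm
    let M := κ ⊗[P ⧸ J] Ω[(P ⧸ J)⁄A₀]
    let l : Ω[P⁄A₀] →ₗ[P] M :=
      ((TensorProduct.mk (P ⧸ J) κ Ω[(P ⧸ J)⁄A₀] 1).restrictScalars P).comp (map A₀ A₀ P (P ⧸ J))
    let Φ : Q.ResidueField ⊗[P] Ω[P⁄A₀] →ₗ[Q.ResidueField] M := l.liftBaseChange Q.ResidueField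
    have hΦ : ∀ p : P, Φ (1 ⊗ₜ D A₀ P p) = 1 ⊗ₜ D A₀ (P ⧸ J) (Ideal.Quotient.mk J p) := fun p => by
      simp only [Φ, LinearMap.liftBaseChange_tmul, one_smul]
      show 1 ⊗ₜ map A₀ A₀ P (P ⧸ J) (D A₀ P p) = _
      rw [map_D]
      rfl
    have h0 : ∀ i, Φ (v (a i)) = 0 := fun i => by
      rw [hΦ, Ideal.Quotient.eq_zero_iff_mem.2 (Ideal.subset_span
        (Finset.mem_image_of_mem (fun j => (a j).1) (Finset.mem_univ i))), map_zero, tmul_zero]
    obtain ⟨p, rfl⟩ := Ideal.Quotient.mk_surjective b
    have hp : p ∈ RingHom.ker π := hb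
    rw [← hΦ p]
    have hle : Submodule.span Q.ResidueField (Set.range v) ≤ LinearMap.ker Φ := by
      rw [← hsp, Submodule.span_le]
      rintro _ ⟨i, rfl⟩
      exact h0 i
    exact hle (Submodule.subset_span ⟨⟨p, hp⟩, rfl⟩)

/-- If every element of the kernel has differential vanishing at `q`, the fibre of `Ω` does not grow. -/
theorem finrank_le_of_ker {B S : Type u} [CommRing B] [CommRing S] [Algebra A₀ B] [Algebra A₀ S]
    [Algebra.EssFiniteType A₀ B] [Algebra.EssFiniteType A₀ S] (ρ : B →ₐ[A₀] S) (hρ : Function.Surjective ρ)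
    (q : Ideal S) [q.IsPrime]
    (h : ∀ b ∈ RingHom.ker ρ, letI := ρ.toRingHom.toAlgebra
        (1 : q.ResidueField) ⊗ₜ[B] D A₀ B b = 0) :
    Module.finrank (q.comap ρ.toRingHom).ResidueField
        ((q.comap ρ.toRingHom).ResidueField ⊗[B] Ω[B⁄A₀]) ≤
      Module.finrank q.ResidueField (q.ResidueField ⊗[S] Ω[S⁄A₀]) := by
  let := ρ.toRingHom.toAlgebra
  haveI : IsScalarTower A₀ B S := IsScalarTower.of_algebraMap_eq fun r => (ρ.commutes r).symm
  let κ := q.ResidueField
  let qB := q.comap ρ.toRingHom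
  letI : Algebra qB.ResidueField κ := (Ideal.ResidueField.map qB q ρ.toRingHom rfl).toAlgebra
  haveI : IsScalarTower B qB.ResidueField κ := IsScalarTower.of_algebraMap_eq fun b =>
    (Ideal.ResidueField.map_algebraMap qB q ρ.toRingHom rfl b).symm
  let M := κ ⊗[B] Ω[B⁄A₀]
  have e : Module.finrank qB.ResidueField (qB.ResidueField ⊗[B] Ω[B⁄A₀]) = Module.finrank κ M := by
    rw [← Module.finrank_baseChange (R := κ) (M' := qB.ResidueField ⊗[B] Ω[B⁄A₀])]
    exact (AlgebraTensorModule.cancelBaseChange B qB.ResidueField κ κ Ω[B⁄A₀]).finrank_eq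
  rw [e]
  choose σ hσ using hρ
  have hwd : ∀ b b' : B, ρ b = ρ b' → (1 : κ) ⊗ₜ[B] D A₀ B b = 1 ⊗ₜ D A₀ B b' := fun b b' e => by
    rw [← sub_eq_zero, ← tmul_sub, ← map_sub]
    exact h _ (by rw [RingHom.mem_ker, map_sub, e, sub_self])
  have hact : ∀ (b : B) (z : M), (ρ b) • z = b • z := fun b z => algebraMap_smul S b z
  let δ : Derivation A₀ S M := Derivation.mk'
    { toFun := fun s => 1 ⊗ₜ D A₀ B (σ s)
      map_add' := fun s t => by
        rw [hwd (σ (s + t)) (σ s + σ t) (by simp [hσ]), map_add, tmul_add]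
      map_smul' := fun r s => by
        rw [hwd (σ (r • s)) (r • σ s) (by simp [hσ]), Derivation.map_smul, RingHom.id_apply,
          ← algebraMap_smul B r (D A₀ B (σ s)), tmul_smul, algebraMap_smul] }
    (fun s t => by
      show (1 : κ) ⊗ₜ[B] D A₀ B (σ (s * t)) = s • ((1 : κ) ⊗ₜ[B] D A₀ B (σ t)) + t • ((1 : κ) ⊗ₜ[B] D A₀ B (σ s))
      rw [hwd (σ (s * t)) (σ s * σ t) (by simp [hσ]), Derivation.leibniz, tmul_add, tmul_smul, tmul_smul,
        ← hact (σ s), ← hact (σ t), hσ, hσ])
  let R : κ ⊗[S] Ω[S⁄A₀] →ₗ[κ] M := δ.liftKaehlerDifferential.liftBaseChange κ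
  have hR : Function.Surjective R := by
    rw [← LinearMap.range_eq_top, eq_top_iff]
    intro z _
    induction z using TensorProduct.induction_on with
    | zero => exact zero_mem _
    | add x y hx hy => exact add_mem (hx trivial) (hy trivial)
    | tmul c ω =>
      rw [← mul_one c, ← smul_eq_mul, ← smul_tmul']
      refine Submodule.smul_mem _ _ ?_
      have hω : ω ∈ Submodule.span B (Set.range (D A₀ B)) := by
        rw [KaehlerDifferential.span_range_derivation]; trivial
      clear * - hω hwd hσ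
      induction hω using Submodule.span_induction with
      | mem x hx =>
        obtain ⟨b, rfl⟩ := hx
        refine ⟨1 ⊗ₜ D A₀ S (ρ b), ?_⟩
        simp only [R, LinearMap.liftBaseChange_tmul, one_smul, Derivation.liftKaehlerDifferential_comp_D]
        exact hwd _ _ (hσ (ρ b))
      | zero => rw [tmul_zero]; exact zero_mem _
      | add x y _ _ hx hy => rw [tmul_add]; exact add_mem hx hy
      | smul b x _ hx =>
        rw [tmul_smul, ← algebraMap_smul κ b]
        exact Submodule.smul_mem _ _ hx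
  exact R.finrank_le_finrank_of_surjective hR

end Base

/-- `dim κ(q) ⊗ Ω ≤ local dimension` implies smoothness. -/
theorem isSmoothAt_of_finrank_kaehler_le {S : Type u} [CommRing S] [Algebra k S] [Algebra.FiniteType k S]
    (q : Ideal S) [q.IsPrime]
    (h : ((Module.finrank q.ResidueField (q.ResidueField ⊗[S] Ω[S⁄k]) : ℕ) : WithBot ℕ∞) ≤
      FlatMor.localDim (PrimeSpectrum S) ⟨q, inferInstance⟩) :
    Algebra.IsSmoothAt k q := by
  obtain ⟨B, _, _, _, ρ, hρ, hsm, hker⟩ := exists_smooth_cover k q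
  haveI := hsm
  refine isSmoothAt_of_surjective k ρ hρ q ?_
  rw [(regular_and_localDim_eq_finrank k (q.comap ρ.toRingHom)).2]
  refine le_trans ?_ h
  exact_mod_cast finrank_le_of_ker k ρ hρ q hker

theorem isSmoothAt_iff_finrank_kaehler_le {S : Type u} [CommRing S] [Algebra k S] [Algebra.FiniteType k S]
    (q : Ideal S) [q.IsPrime] :
    Algebra.IsSmoothAt k q ↔
      ((Module.finrank q.ResidueField (q.ResidueField ⊗[S] Ω[S⁄k]) : ℕ) : WithBot ℕ∞) ≤
        FlatMor.localDim (PrimeSpectrum S) ⟨q, inferInstance⟩ :=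
  ⟨fun _ => (regular_and_localDim_eq_finrank k q).2.ge, isSmoothAt_of_finrank_kaehler_le k q⟩

end Groth.Agent.Unram17Lib
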