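import Groth.Agent.Unram17Lib.KaehlerCriterion
import Groth.Agent.SmoothLib.AtPoint
import Groth.Agent.SmoothLib.StalkCrit
import Mathlib.RingTheory.LocalRing.ResidueField.Fiber
import Mathlib.RingTheory.Kaehler.TensorProduct

/-!
# Smoothness from flatness and the rank of the differentials
-/

set_option autoImplicit false
set_option backward.isDefEq.respectTransparency.types false
set_option backward.isDefEq.respectTransparency false
universe u

open CategoryTheory AlgebraicGeometry TensorProduct KaehlerDifferential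

namespace Groth.Agent.Unram17Lib

variable {X Y : Scheme.{u}} (f : X ⟶ Y) {W : Y.Opens} (hW : IsAffineOpen W) {V : X.Opens}
  (hV : IsAffineOpen V) (e : V ≤ f ⁻¹ᵁ W) {x : X} (hxV : x ∈ V)

/-- The point of the fibre ring at `x`; its local dimension is the dimension of the fibre at `x`. -/
theorem exists_fiber_prime :
    letI := (f.appLE W V e).hom.toAlgebra
    ∃ (P : Ideal ((hW.primeIdealOf ⟨f x, e hxV⟩).asIdeal.Fiber Γ(X, V))) (_ : P.IsPrime),
      P.comap (Algebra.TensorProduct.includeRight :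
        Γ(X, V) →ₐ[Γ(Y, W)] (hW.primeIdealOf ⟨f x, e hxV⟩).asIdeal.Fiber Γ(X, V)).toRingHom =
          (hV.primeIdealOf ⟨x, hxV⟩).asIdeal ∧
      FlatMor.localDim (PrimeSpectrum ((hW.primeIdealOf ⟨f x, e hxV⟩).asIdeal.Fiber Γ(X, V))) ⟨P, inferInstance⟩ =
        FlatMor.fibreDimAt f x := by
  letI := (f.appLE W V e).hom.toAlgebra
  let g := Spec.map (f.appLE W V e)
  let q := hV.primeIdealOf ⟨x, hxV⟩
  let p := hW.primeIdealOf ⟨f x, e hxV⟩
  have hgq : g q = p := IsAffineOpen.comap_primeIdealOf_appLE W hW V hV e hxV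
  have h1 := fibreDimAt_eq_of_openImmersion hV.fromSpec hW.fromSpec (hW.SpecMap_appLE_fromSpec f hV e).symm q
  rw [hV.fromSpec_primeIdealOf] at h1
  let h := PrimeSpectrum.preimageHomeomorphFiber Γ(Y, W) Γ(X, V) p
  let a : (PrimeSpectrum.comap (algebraMap Γ(Y, W) Γ(X, V)) ⁻¹' {p} : Set (PrimeSpectrum Γ(X, V))) :=
    ⟨q, hgq⟩
  refine ⟨(h a).asIdeal, (h a).isPrime, ?_, ?_⟩
  · have h3 : (h.symm (h a)).1.asIdeal = q.asIdeal := by rw [h.symm_apply_apply]
    exact h3
  · have key : ∀ (y : PrimeSpectrum Γ(Y, W)) (hy : g q = y),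
        FlatMor.fibreDimAt g q =
          FlatMor.localDim (PrimeSpectrum.comap (algebraMap Γ(Y, W) Γ(X, V)) ⁻¹' {y} :
            Set (PrimeSpectrum Γ(X, V))) ⟨q, hy⟩ := by
      rintro y rfl
      exact AlgSpLib.fibreDimAt_eq_subspace g q
    haveI : QuasiSober (PrimeSpectrum.comap (algebraMap Γ(Y, W) Γ(X, V)) ⁻¹' {p} : Set (PrimeSpectrum Γ(X, V))) :=
      h.isClosedEmbedding.quasiSober
    have h4 := AlgSpLib.localDim_eq_of_map h.continuous h.isOpenMap h.isOpenEmbedding.generalizingMap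
      (fun a a' _ e => h.injective e) a
    rw [← h4, h1, key p hgq]

include hW hV hxV in
/-- Flat, differentials free of rank equal to the fibre dimension: smooth at the point. -/
theorem formallySmooth_stalkMap_of_flat_of_basis [LocallyOfFinitePresentation f]
    (hflat : (f.stalkMap x).hom.Flat) {n : ℕ}
    (hb : letI := (f.appLE W V e).hom.toAlgebra
      Nonempty (Module.Basis (Fin n) Γ(X, V) Ω[Γ(X, V)⁄Γ(Y, W)]))
    (hn : FlatMor.fibreDimAt f x ≥ (n : WithBot ℕ∞)) :
    (f.stalkMap x).hom.FormallySmooth := by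
  rw [formallySmooth_stalkMap_iff W hW V hV e hxV]
  have hfp := f.finitePresentation_appLE hW hV e
  letI := (f.appLE W V e).hom.toAlgebra
  haveI : Algebra.FinitePresentation Γ(Y, W) Γ(X, V) := hfp
  obtain ⟨b⟩ := hb
  obtain ⟨P, _, hP, hdim⟩ := exists_fiber_prime f hW hV e hxV
  haveI := SmoothLib.flat_atPrime_of_stalkMap f hW hV e hxV hflat
  let p := (hW.primeIdealOf ⟨f x, e hxV⟩).asIdeal
  let F := p.Fiber Γ(X, V)
  letI : Algebra Γ(X, V) F := Algebra.TensorProduct.rightAlgebra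
  haveI : Algebra.FiniteType p.ResidueField F := Algebra.FiniteType.baseChange _
  let eΩ : F ⊗[Γ(X, V)] Ω[Γ(X, V)⁄Γ(Y, W)] ≃ₗ[F] Ω[F⁄p.ResidueField] :=
    KaehlerDifferential.tensorKaehlerEquiv Γ(Y, W) p.ResidueField Γ(X, V) F
  have : Algebra.IsSmoothAt p.ResidueField P := by
    refine isSmoothAt_of_finrank_kaehler_le p.ResidueField P ?_
    rw [hdim, Module.finrank_eq_card_basis (((b.baseChange F).map eΩ).baseChange P.ResidueField),
      Fintype.card_fin]
    exact hn
  exact SmoothLib.isSmoothAt_of_fibre p (hV.primeIdealOf ⟨x, hxV⟩).asIdeal P hP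

end Groth.Agent.Unram17Lib
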