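import Groth.Agent.Unram17Lib.KaehlerCriterion
import Groth.Agent.SmoothLib.AtPoint
import Groth.Agent.CommAlg6.FibreLocal
import Mathlib.RingTheory.Smooth.Flat

/-!
# Smoothness over a regular base from the rank of the differentials and a dimension formula
-/

set_option autoImplicit false
set_option backward.isDefEq.respectTransparency.types false
universe u

open TensorProduct KaehlerDifferential IsLocalRing

namespace Groth.Agent.Unram17Lib

theorem exists_nat_dim (R : Type u) [CommRing R] [IsLocalRing R] [IsNoetherianRing R] :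
    ∃ n : ℕ, ringKrullDim R = (n : WithBot ℕ∞) := by
  rw [← IsLocalRing.maximalIdeal_height_eq_ringKrullDim]
  obtain ⟨n, hn⟩ := ENat.ne_top_iff_exists.1
    (Ideal.height_ne_top (I := maximalIdeal R) (Ideal.IsPrime.ne_top inferInstance))
  exact ⟨n, by rw [← hn]; rfl⟩

/-- A formally smooth local domain surjecting onto a ring of no smaller dimension is isomorphic to it. -/
theorem formallySmooth_of_surjective_of_dim {R L M : Type u} [CommRing R] [CommRing L] [CommRing M]
    [Algebra R L] [Algebra R M] [IsLocalRing L] [IsDomain L] [IsLocalRing M] [IsNoetherianRing M]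
    [IsNoetherianRing L] [Algebra.FormallySmooth R L] (f : L →ₐ[R] M) (hf : Function.Surjective f)
    (h : ringKrullDim L ≤ ringKrullDim M) : Algebra.FormallySmooth R M := by
  obtain ⟨a, ha⟩ := exists_nat_dim L
  obtain ⟨b, hb⟩ := exists_nat_dim M
  have hab : a ≤ b := by
    rw [ha, hb] at h
    exact_mod_cast h
  have hinj : Function.Injective f := by
    rw [injective_iff_map_eq_zero]
    intro x hx
    by_contra hx0
    have h3 := ringKrullDim_quotient_succ_le_of_nonZeroDivisor (mem_nonZeroDivisors_of_ne_zero hx0)
    have h4 : ringKrullDim M ≤ ringKrullDim (L ⧸ Ideal.span {x}) := by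
      refine ringKrullDim_le_of_surjective (Ideal.Quotient.lift (Ideal.span {x}) f.toRingHom ?_) ?_
      · intro z hz
        obtain ⟨c, rfl⟩ := Ideal.mem_span_singleton'.1 hz
        rw [map_mul, show f.toRingHom x = 0 from hx, mul_zero]
      · intro y
        obtain ⟨z, hz⟩ := hf y
        exact ⟨Ideal.Quotient.mk _ z, hz⟩
    have h5 : ((b + 1 : ℕ) : WithBot ℕ∞) ≤ (a : WithBot ℕ∞) := by
      rw [← ha, Nat.cast_add, Nat.cast_one, ← hb]
      exact (add_le_add_left h4 1).trans h3
    have : b + 1 ≤ a := by exact_mod_cast h5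
    omega
  exact Algebra.FormallySmooth.of_equiv (AlgEquiv.ofBijective f ⟨hinj, hf⟩)

variable {A S : Type u} [CommRing A] [CommRing S] [Algebra A S] [IsNoetherianRing A] [Algebra.FiniteType A S]

/-- Over a point with regular local ring: if `dim κ(q) ⊗ Ω ≤` the local dimension of the fibre and the
dimension formula holds at `q`, then smooth at `q`. -/
theorem isSmoothAt_of_regular_base (p : Ideal A) [p.IsPrime] [IsRegularLocalRing (Localization.AtPrime p)]
    (q : Ideal S) [q.IsPrime] (PS : Ideal (p.Fiber S)) [PS.IsPrime]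
    (hPS : PS.comap (Algebra.TensorProduct.includeRight : S →ₐ[A] p.Fiber S).toRingHom = q)
    (hrank : ((Module.finrank q.ResidueField (q.ResidueField ⊗[S] Ω[S⁄A]) : ℕ) : WithBot ℕ∞) ≤
      FlatMor.localDim (PrimeSpectrum (p.Fiber S)) ⟨PS, inferInstance⟩)
    (hdim : ringKrullDim (Localization.AtPrime p) + ringKrullDim (Localization.AtPrime PS) ≤
      ringKrullDim (Localization.AtPrime q)) :
    Algebra.IsSmoothAt A q := by
  haveI : IsNoetherianRing S := Algebra.FiniteType.isNoetherianRing A S
  obtain ⟨B, _, _, _, ρ, hρ, hsm, hker⟩ := exists_smooth_cover A q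
  haveI : IsNoetherianRing B := Algebra.FiniteType.isNoetherianRing A B
  haveI : Algebra.FinitePresentation A B := Algebra.FinitePresentation.of_finiteType.1 inferInstance
  let qB := q.comap ρ.toRingHom
  haveI := hsm
  let K := p.ResidueField
  let ρF : p.Fiber B →ₐ[K] p.Fiber S := Algebra.TensorProduct.map (AlgHom.id K K) ρ
  have hρF : Function.Surjective ρF := fun z => by
    induction z using TensorProduct.induction_on with
    | zero => exact ⟨0, map_zero _⟩
    | tmul c s =>
      obtain ⟨b, rfl⟩ := hρ s
      exact ⟨c ⊗ₜ b, rfl⟩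
    | add x y hx hy =>
      obtain ⟨x', rfl⟩ := hx
      obtain ⟨y', rfl⟩ := hy
      exact ⟨x' + y', map_add _ _ _⟩
  let PB := PS.comap ρF.toRingHom
  have hPB : PB.comap (Algebra.TensorProduct.includeRight : B →ₐ[A] p.Fiber B).toRingHom = qB := by
    ext b
    rw [show qB = q.comap ρ.toRingHom from rfl, ← hPS]
    rfl
  haveI : Algebra.FinitePresentation K (p.Fiber B) := Algebra.FinitePresentation.baseChange _
  haveI : Algebra.IsSmoothAt K PB := SmoothLib.isSmoothAt_baseChange K PB qB hPB
  obtain ⟨hregPB, hdimPB⟩ := regular_and_localDim_eq_finrank K PB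
  -- the fibre of differentials
  have hfin : Module.finrank PB.ResidueField (PB.ResidueField ⊗[p.Fiber B] Ω[p.Fiber B⁄K]) =
      Module.finrank qB.ResidueField (qB.ResidueField ⊗[B] Ω[B⁄A]) := by
    letI : Algebra B (p.Fiber B) := Algebra.TensorProduct.rightAlgebra
    letI : Algebra qB.ResidueField PB.ResidueField :=
      (Ideal.ResidueField.map qB PB (Algebra.TensorProduct.includeRight : B →ₐ[A] p.Fiber B).toRingHom
        hPB.symm).toAlgebra
    haveI : IsScalarTower B qB.ResidueField PB.ResidueField := IsScalarTower.of_algebraMap_eq fun b => by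
      refine Eq.trans ?_ (Ideal.ResidueField.map_algebraMap qB PB
        (Algebra.TensorProduct.includeRight : B →ₐ[A] p.Fiber B).toRingHom hPB.symm b).symm
      exact IsScalarTower.algebraMap_apply B (p.Fiber B) PB.ResidueField b
    let eΩ : p.Fiber B ⊗[B] Ω[B⁄A] ≃ₗ[p.Fiber B] Ω[p.Fiber B⁄K] :=
      KaehlerDifferential.tensorKaehlerEquiv A K B (p.Fiber B)
    rw [← (LinearEquiv.baseChange (p.Fiber B) PB.ResidueField _ _ eΩ).finrank_eq,
      (AlgebraTensorModule.cancelBaseChange B (p.Fiber B) PB.ResidueField PB.ResidueField Ω[B⁄A]).finrank_eq,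
      ← Module.finrank_baseChange (R := PB.ResidueField) (M' := qB.ResidueField ⊗[B] Ω[B⁄A])]
    exact (AlgebraTensorModule.cancelBaseChange B qB.ResidueField PB.ResidueField PB.ResidueField
      Ω[B⁄A]).finrank_eq.symm
  have hd : ringKrullDim (p.Fiber B ⧸ PB) = ringKrullDim (p.Fiber S ⧸ PS) := by
    refine ringKrullDim_eq_of_ringEquiv ((Ideal.quotEquivOfEq ?_).trans
      (RingHom.quotientKerEquivOfSurjective (f := (Ideal.Quotient.mk PS).comp ρF.toRingHom)
        (Ideal.Quotient.mk_surjective.comp hρF)))
    rw [← RingHom.comap_ker, Ideal.mk_ker]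
  have hle : ringKrullDim (Localization.AtPrime PB) + ringKrullDim (p.Fiber S ⧸ PS) ≤
      ringKrullDim (Localization.AtPrime PS) + ringKrullDim (p.Fiber S ⧸ PS) := by
    have h := localDim_spec K (p.Fiber B) ⟨PB, inferInstance⟩
    have h' := localDim_spec K (p.Fiber S) ⟨PS, inferInstance⟩
    rw [hdimPB, hfin] at h
    have hf := finrank_le_of_ker A ρ hρ q hker
    have h1 : FlatMor.localDim (PrimeSpectrum (p.Fiber S)) ⟨PS, inferInstance⟩ ≥
        ((Module.finrank qB.ResidueField (qB.ResidueField ⊗[B] Ω[B⁄A]) : ℕ) : WithBot ℕ∞) :=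
      le_trans (Nat.cast_le.2 hf) hrank
    rw [h, h'] at h1
    exact hd ▸ h1
  have hcancel : ringKrullDim (Localization.AtPrime PB) ≤ ringKrullDim (Localization.AtPrime PS) := by
    obtain ⟨d, hd⟩ : ∃ d : ℕ, ringKrullDim (p.Fiber S ⧸ PS) = (d : WithBot ℕ∞) :=
      ⟨_, DimLib.ringKrullDim_quotient_eq_ptDim (A := CommRingCat.of (p.Fiber S)) (algebraMap K (p.Fiber S))
        (RingHom.finiteType_algebraMap.2 inferInstance) ⟨PS, inferInstance⟩⟩
    rw [hd] at hle
    haveI : IsNoetherianRing (p.Fiber B) := Algebra.FiniteType.isNoetherianRing K (p.Fiber B)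
    haveI : IsNoetherianRing (p.Fiber S) := Algebra.FiniteType.isNoetherianRing K (p.Fiber S)
    haveI : IsNoetherianRing (Localization.AtPrime PB) := IsLocalization.isNoetherianRing PB.primeCompl _ inferInstance
    obtain ⟨a, ha⟩ := exists_nat_dim (Localization.AtPrime PB)
    haveI : IsNoetherianRing (Localization.AtPrime PS) := IsLocalization.isNoetherianRing PS.primeCompl _ inferInstance
    obtain ⟨b, hb⟩ := exists_nat_dim (Localization.AtPrime PS)
    rw [ha, hb] at hle ⊢
    have : a + d ≤ b + d := by exact_mod_cast hle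
    exact_mod_cast (show a ≤ b by omega)
  -- the local rings
  let Ap := Localization.AtPrime p
  let L := Localization.AtPrime qB
  let M := Localization.AtPrime q
  have hqp : qB.comap (algebraMap A B) = p := by
    rw [← hPB]
    exact (CommAlg6.fiber_localization_equiv p PB).1
  haveI : qB.LiesOver p := ⟨hqp.symm⟩
  letI := Localization.AtPrime.algebraOfLiesOver p qB
  haveI : IsLocalHom (algebraMap Ap L) :=
    Localization.isLocalHom_localRingHom p qB (algebraMap A B) Ideal.LiesOver.over
  haveI : Algebra.FormallySmooth A L := hsm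
  haveI : Module.Flat A L := by
    obtain ⟨g, hg, hg'⟩ := Algebra.IsSmoothAt.exists_notMem_smooth A qB
    haveI := hg'
    have hu : IsUnit (algebraMap B L g) := IsLocalization.map_units L (⟨g, hg⟩ : qB.primeCompl)
    letI : Algebra (Localization.Away g) L := (IsLocalization.Away.lift g hu).toAlgebra
    haveI : IsScalarTower B (Localization.Away g) L := IsScalarTower.of_algebraMap_eq fun b =>
      (IsLocalization.Away.lift_eq g hu b).symm
    haveI : IsScalarTower A (Localization.Away g) L := IsScalarTower.of_algebraMap_eq fun a => by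
      rw [IsScalarTower.algebraMap_apply A B (Localization.Away g), IsScalarTower.algebraMap_apply A B L,
        ← IsScalarTower.algebraMap_apply B (Localization.Away g) L]
    have hle : Submonoid.powers g ≤ qB.primeCompl := Submonoid.powers_le.2 hg
    haveI : IsLocalization (qB.primeCompl.map (algebraMap B (Localization.Away g))) L :=
      IsLocalization.isLocalization_of_submonoid_le (Localization.Away g) L _ _ hle
    haveI : Module.Flat (Localization.Away g) L :=
      IsLocalization.flat L (qB.primeCompl.map (algebraMap B (Localization.Away g)))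
    exact Module.Flat.trans A (Localization.Away g) L
  haveI : Module.Flat Ap L := (Module.flat_iff_of_isLocalization Ap p.primeCompl (M := L)).2 inferInstance
  have hmap : (maximalIdeal Ap).map (algebraMap Ap L) = p.map (algebraMap A L) := by
    rw [← Localization.AtPrime.map_eq_maximalIdeal, Ideal.map_map, ← IsScalarTower.algebraMap_eq]
  obtain ⟨-, ⟨e₁⟩⟩ := CommAlg6.fiber_localization_equiv p PB
  obtain ⟨e₂⟩ := CommAlg6.fibLocRing_congr (A := A) _ qB hPB
  let e : Localization.AtPrime PB ≃+* (L ⧸ (maximalIdeal Ap).map (algebraMap Ap L)) :=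
    (e₁.trans e₂).trans (Ideal.quotEquivOfEq (show (qB.comap (algebraMap A B)).map (algebraMap A L) = _ by
      rw [hmap, hqp]))
  haveI := hregPB
  haveI : IsRegularLocalRing L :=
    CommAlg6.isRegularLocalRing_of_fibre (A := Ap) (B := L) (IsRegularLocalRing.of_ringEquiv (R := Localization.AtPrime PB) e)
  haveI : IsDomain L := CAlgH3.isDomain_of_isRegularLocalRing L
  have hL : ringKrullDim L ≤ ringKrullDim M := by
    rw [CommAlg6.ringKrullDim_eq_add_fibre (A := Ap) (B := L), ← ringKrullDim_eq_of_ringEquiv e]
    exact (add_le_add_right hcancel _).trans hdim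
  let f₀ : L →+* M := Localization.localRingHom qB q ρ.toRingHom rfl
  let f : L →ₐ[A] M :=
    { f₀ with
      commutes' := fun r => by
        change f₀ (algebraMap A L r) = _
        rw [IsScalarTower.algebraMap_apply A B L, Localization.localRingHom_to_map,
          IsScalarTower.algebraMap_apply A S M]
        exact congrArg _ (ρ.commutes r) }
  exact formallySmooth_of_surjective_of_dim f
    ((RingHom.surjectiveOnStalks_of_surjective hρ).localRingHom_surjective qB q rfl) hL

end Groth.Agent.Unram17Lib
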