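import Groth.Agent.Unram17Lib.KaehlerCriterion

/-!
# Separable function fields and the rank of differentials
-/

set_option autoImplicit false
set_option backward.isDefEq.respectTransparency.types false
universe u

open TensorProduct KaehlerDifferential IsLocalRing

namespace Groth.Agent.Unram17Lib

variable (k : Type u) [Field k] (D : Type u) [CommRing D] [IsDomain D] [Algebra k D] [Algebra.FiniteType k D]
  (K : Type u) [Field K] [Algebra D K] [IsFractionRing D K] [Algebra k K] [IsScalarTower k D K]

/-- The function field of a domain of finite type is formally smooth iff the rank of its differentials is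
at most the dimension, and then they are equal. -/
theorem formallySmooth_fractionRing_iff :
    (Algebra.FormallySmooth k K ↔ ((Module.finrank K Ω[K⁄k] : ℕ) : WithBot ℕ∞) ≤ ringKrullDim D) ∧
      (Algebra.FormallySmooth k K → ((Module.finrank K Ω[K⁄k] : ℕ) : WithBot ℕ∞) = ringKrullDim D) := by
  let q : Ideal D := ⊥
  haveI : q.IsPrime := Ideal.isPrime_bot
  have hq : q.primeCompl = nonZeroDivisors D := by
    ext x
    simp [q, Ideal.primeCompl]
  haveI : IsLocalization q.primeCompl K := by rw [hq]; infer_instance
  let L := Localization.AtPrime q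
  let eL : L ≃ₐ[k] K := (IsLocalization.algEquiv q.primeCompl L K).restrictScalars k
  have hdim : FlatMor.localDim (PrimeSpectrum D) ⟨q, inferInstance⟩ = ringKrullDim D := by
    rw [localDim_spec k D, ringKrullDim_eq_zero_of_isField (MulEquiv.isField (Field.toIsField K) eL.toMulEquiv),
      zero_add, ringKrullDim_eq_of_ringEquiv (RingEquiv.quotientBot D)]
  have hinj : Function.Injective (algebraMap D q.ResidueField) := by
    rw [injective_iff_map_eq_zero]
    intro x hx
    rwa [Ideal.algebraMap_residueField_eq_zero] at hx
  letI : Algebra K q.ResidueField := (IsFractionRing.lift hinj).toAlgebra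
  haveI : IsScalarTower D K q.ResidueField := IsScalarTower.of_algebraMap_eq fun d =>
    (IsFractionRing.lift_algebraMap hinj d).symm
  haveI : Algebra.FormallyEtale D K := .of_isLocalization q.primeCompl
  have hfin : Module.finrank q.ResidueField (q.ResidueField ⊗[D] Ω[D⁄k]) = Module.finrank K Ω[K⁄k] := by
    rw [← (tensorKaehlerEquivOfFormallyEtale k D K).finrank_eq,
      ← Module.finrank_baseChange (R := q.ResidueField) (M' := K ⊗[D] Ω[D⁄k])]
    exact (AlgebraTensorModule.cancelBaseChange D K q.ResidueField q.ResidueField Ω[D⁄k]).finrank_eq.symm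
  have hiff : Algebra.IsSmoothAt k q ↔ Algebra.FormallySmooth k K :=
    ⟨fun h => @Algebra.FormallySmooth.of_equiv _ _ _ _ _ _ _ _ h eL,
      fun h => @Algebra.FormallySmooth.of_equiv _ _ _ _ _ _ _ _ h eL.symm⟩
  refine ⟨?_, fun h => ?_⟩
  · rw [← hiff, isSmoothAt_iff_finrank_kaehler_le, hfin, hdim]
  · haveI := hiff.2 h
    have h2 := (regular_and_localDim_eq_finrank k q).2
    rw [hfin, hdim] at h2
    exact h2.symm

end Groth.Agent.Unram17Lib
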